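import Mathlib

/-! Criterion for sheaves on the small étale site. -/

set_option autoImplicit false
universe u w

open CategoryTheory Limits AlgebraicGeometry TopologicalSpace Opposite MorphismProperty

namespace EtSheafLib

variable {X : Scheme.{u}}

theorem mem_et_iff (Z : X.Etale) (R : Sieve Z) :
    R ∈ X.smallEtaleTopology Z ↔ ∀ x : Z.left, ∃ (Y : X.Etale) (f : Y ⟶ Z) (y : Y.left),
      R f ∧ AlgebraicGeometry.Etale f.left ∧ f.left y = x := by
  show R ∈ X.smallGrothendieckTopology (Q := @AlgebraicGeometry.Etale) @AlgebraicGeometry.Etale Z ↔ _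
  rw [Scheme.smallGrothendieckTopology_eq_toGrothendieck_smallPretopology X le_rfl]
  exact Scheme.mem_toGrothendieck_smallPretopology _ _

theorem mem_zar_iff (Z : X.Etale) (R : Sieve Z) :
    R ∈ X.smallGrothendieckTopology (P := @IsOpenImmersion) Z ↔ ∀ x : Z.left, ∃ (Y : X.Etale) (f : Y ⟶ Z) (y : Y.left),
      R f ∧ IsOpenImmersion f.left ∧ f.left y = x := by
  rw [Scheme.smallGrothendieckTopology_eq_toGrothendieck_smallPretopology X (P := @IsOpenImmersion)
    (Q := @AlgebraicGeometry.Etale) (fun A B f (hf : IsOpenImmersion f) => inferInstance)]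
  exact Scheme.mem_toGrothendieck_smallPretopology _ _

theorem etale_left {Y Z : X.Etale} (f : Y ⟶ Z) : AlgebraicGeometry.Etale f.left := by
  have h1 : AlgebraicGeometry.Etale (f.left ≫ Z.hom) := by rw [MorphismProperty.Over.w f]; exact Y.prop
  exact MorphismProperty.of_postcomp (@AlgebraicGeometry.Etale) f.left Z.hom Z.prop h1

/-- An object over an open of `Z`. -/
noncomputable abbrev restr (Z : X.Etale) (W : Z.left.Opens) : X.Etale :=
  MorphismProperty.Over.mk _ (W.ι ≫ Z.hom) (by haveI : AlgebraicGeometry.Etale Z.hom := Z.prop; infer_instance)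

/-- The inclusion of an open. -/
noncomputable abbrev restrι (Z : X.Etale) (W : Z.left.Opens) : restr Z W ⟶ Z :=
  MorphismProperty.Over.homMk W.ι

variable (F : X.Etaleᵒᵖ ⥤ Type w)
  (hzar : Presieve.IsSheaf (X.smallGrothendieckTopology (P := @IsOpenImmersion)) F)
  (hsing : ∀ (U V : X.Etale) [IsAffine U.left] [IsAffine V.left] (f : V ⟶ U) [Surjective f.left],
    Presieve.IsSheafFor F (Presieve.singleton f))

include hzar in
theorem sep_local {Z : X.Etale} (R : Sieve Z)
    (hloc : ∀ W : Z.left.Opens, IsAffineOpen W → Presieve.IsSeparatedFor F (R.pullback (restrι Z W)).arrows) :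
    Presieve.IsSeparatedFor F R.arrows := by
  intro x t₁ t₂ h₁ h₂
  have hc : Sieve.ofArrows _ (fun W : Z.left.affineOpens => restrι Z W.1) ∈ X.smallGrothendieckTopology (P := @IsOpenImmersion) Z := by
    rw [mem_zar_iff]
    intro z
    obtain ⟨W, hW, hz, -⟩ := exists_isAffineOpen_mem_and_subset (X := Z.left) (x := z) (U := ⊤) trivial
    exact ⟨_, restrι Z W, ⟨z, hz⟩, Sieve.ofArrows_mk _ (fun W : Z.left.affineOpens => restrι Z W.1) ⟨W, hW⟩, inferInstanceAs (IsOpenImmersion W.ι), rfl⟩
  refine (hzar _ hc).isSeparatedFor.ext fun Y g hg => ?_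
  obtain ⟨Y', a, _, ⟨W⟩, rfl⟩ := hg
  have : F.map (restrι Z W.1).op t₁ = F.map (restrι Z W.1).op t₂ := by
    refine (hloc W.1 W.2).ext fun T b hb => ?_
    rw [← Functor.map_comp_apply, ← Functor.map_comp_apply, ← op_comp, h₁ _ hb, h₂ _ hb]
  exact (Functor.map_comp_apply F (restrι Z W.1).op a.op t₁).trans
    ((congrArg (fun s => F.map a.op s) this).trans (Functor.map_comp_apply F (restrι Z W.1).op a.op t₂).symm)

include hzar hsing in
theorem singleton_mem {U V : X.Etale} [IsAffine U.left] [IsAffine V.left] (f : V ⟶ U) [Surjective f.left] :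
    Sieve.generate (Presieve.singleton f) ∈ Sheaf.finestTopologySingle F U := by
  have haff : ∀ {W : X.Etale} [IsAffine W.left] (g : W ⟶ U),
      Presieve.IsSheafFor F ((Sieve.generate (Presieve.singleton f)).pullback g).arrows := by
    intro W _ g
    haveI := etale_left f
    haveI : AlgebraicGeometry.Etale W.hom := W.prop
    let P : X.Etale := MorphismProperty.Over.mk _ (pullback.snd f.left g.left ≫ W.hom) inferInstance
    let p : P ⟶ W := MorphismProperty.Over.homMk (pullback.snd f.left g.left)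
    have hw : pullback.fst f.left g.left ≫ V.hom = pullback.snd f.left g.left ≫ W.hom := by
      rw [← MorphismProperty.Over.w f, pullback.condition_assoc, MorphismProperty.Over.w g]
    let q : P ⟶ V := MorphismProperty.Over.homMk (pullback.fst f.left g.left) hw
    haveI : IsAffine P.left := inferInstanceAs (IsAffine (pullback f.left g.left))
    haveI : Surjective p.left := inferInstanceAs (Surjective (pullback.snd f.left g.left))
    have e : (Sieve.generate (Presieve.singleton f)).pullback g = Sieve.generate (Presieve.singleton p) := by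
      ext T a
      constructor
      · rintro ⟨_, b, _, ⟨⟩, hb⟩
        have hb' : b.left ≫ f.left = a.left ≫ g.left := congrArg (fun k => k.left) hb
        refine ⟨P, MorphismProperty.Over.homMk (pullback.lift b.left a.left hb') ?_, p, Presieve.singleton_self p, ?_⟩
        · show pullback.lift b.left a.left hb' ≫ pullback.snd f.left g.left ≫ W.hom = T.hom
          rw [pullback.lift_snd_assoc, MorphismProperty.Over.w a]
        · apply MorphismProperty.Over.Hom.ext; exact pullback.lift_snd _ _ hb'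
      · rintro ⟨_, b, _, ⟨⟩, rfl⟩
        refine ⟨V, b ≫ q, f, Presieve.singleton_self f, ?_⟩
        apply MorphismProperty.Over.Hom.ext
        show (b.left ≫ pullback.fst f.left g.left) ≫ f.left = (b.left ≫ pullback.snd f.left g.left) ≫ g.left
        rw [Category.assoc, Category.assoc]
        exact congrArg (fun k => b.left ≫ k) pullback.condition
    rw [e, ← Presieve.isSheafFor_iff_generate]
    exact hsing W P p
  have hsepAll : ∀ {Z : X.Etale} (g : Z ⟶ U), Presieve.IsSeparatedFor F ((Sieve.generate (Presieve.singleton f)).pullback g).arrows := by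
    intro Z g
    refine sep_local F hzar _ fun W hW => ?_
    haveI : IsAffine (restr Z W).left := hW
    rw [← Sieve.pullback_comp]
    exact (haff _).isSeparatedFor
  intro Z g
  rw [← Presieve.isSeparatedFor_and_exists_isAmalgamation_iff_isSheafFor]
  refine ⟨hsepAll g, ?_⟩
  set R := (Sieve.generate (Presieve.singleton f)).pullback g
  intro x hx
  have hl : ∀ W : Z.left.affineOpens, Presieve.IsSheafFor F (R.pullback (restrι Z W.1)).arrows := fun W => by
    haveI : IsAffine (restr Z W.1).left := W.2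
    rw [← Sieve.pullback_comp]; exact haff _
  let xW : ∀ W : Z.left.affineOpens, Presieve.FamilyOfElements F (R.pullback (restrι Z W.1)).arrows := fun W => x.pullback (restrι Z W.1)
  have hxW : ∀ W, (xW W).Compatible := fun W => Presieve.FamilyOfElements.Compatible.pullback (restrι Z W.1) hx
  let t : ∀ W : Z.left.affineOpens, F.obj (op (restr Z W.1)) := fun W => (hl W).amalgamate (xW W) (hxW W)
  have ht : ∀ W T (a : T ⟶ restr Z W.1) (h : R (a ≫ restrι Z W.1)), F.map a.op (t W) = x _ h := fun W T a h =>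
    (hl W).valid_glue (hxW W) a h
  have hc : Sieve.ofArrows _ (fun W : Z.left.affineOpens => restrι Z W.1) ∈ X.smallGrothendieckTopology (P := @IsOpenImmersion) Z := by
    rw [mem_zar_iff]
    intro z
    obtain ⟨W, hW, hz, -⟩ := exists_isAffineOpen_mem_and_subset (X := Z.left) (x := z) (U := ⊤) trivial
    exact ⟨_, restrι Z W, ⟨z, hz⟩, Sieve.ofArrows_mk _ (fun W : Z.left.affineOpens => restrι Z W.1) ⟨W, hW⟩, inferInstanceAs (IsOpenImmersion W.ι), rfl⟩
  have hcs : Presieve.IsSheafFor F (Presieve.ofArrows _ (fun W : Z.left.affineOpens => restrι Z W.1)) := by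
    rw [Presieve.isSheafFor_iff_generate]; exact hzar _ hc
  have hcompat : Presieve.Arrows.Compatible F (fun W : Z.left.affineOpens => restrι Z W.1) t := by
    intro i j T gi gj h
    refine (hsepAll ((gi ≫ restrι Z i.1) ≫ g)).ext fun T' a ha => ?_
    have ha' : R ((a ≫ gi) ≫ restrι Z i.1) := by
      show (Sieve.generate (Presieve.singleton f)).arrows _
      simp only [Category.assoc] at ha ⊢; exact ha
    have hb : R ((a ≫ gj) ≫ restrι Z j.1) := by rw [Category.assoc, ← h, ← Category.assoc]; exact ha'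
    rw [← Functor.map_comp_apply, ← Functor.map_comp_apply, ← op_comp, ← op_comp, ht i _ _ ha', ht j _ _ hb]
    congr 1
    rw [Category.assoc, h, Category.assoc]
  obtain ⟨s, hs, -⟩ := Presieve.isSheafFor_arrows_iff _ _ |>.1 hcs t hcompat
  refine ⟨s, fun T a ha => ?_⟩
  refine (hzar _ (GrothendieckTopology.pullback_stable _ a hc)).isSeparatedFor.ext fun T' b hb => ?_
  obtain ⟨_, c, _, ⟨W⟩, hcb⟩ := hb
  have hR : R (c ≫ restrι Z W.1) := hcb ▸ R.downward_closed ha b
  refine (Functor.map_comp_apply F a.op b.op s).symm.trans ?_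
  rw [show a.op ≫ b.op = (restrι Z W.1).op ≫ c.op from congrArg Quiver.Hom.op hcb.symm]
  refine ((Functor.map_comp_apply F (restrι Z W.1).op c.op s).trans ((congrArg _ (hs W)).trans (ht W _ c hR))).trans ?_
  have h5 := hx (𝟙 T') b hR ha ((Category.id_comp _).trans hcb)
  refine Eq.trans ?_ h5
  exact (ConcreteCategory.congr_hom (F.map_id (Opposite.op T')) _).symm

include hzar hsing in
theorem mem_finest {Z : X.Etale} (R : Sieve Z) (hR : R ∈ X.smallEtaleTopology Z) :
    R ∈ Sheaf.finestTopologySingle F Z := by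
  classical
  let K := Sheaf.finestTopologySingle F
  have hz : ∀ {Y : X.Etale} (T : Sieve Y), T ∈ X.smallGrothendieckTopology (P := @IsOpenImmersion) Y → T ∈ K Y :=
    fun T hT Z g => hzar _ (GrothendieckTopology.pullback_stable _ g hT)
  refine K.transitive (hz (Sieve.ofArrows _ (fun W : Z.left.affineOpens => restrι Z W.1)) ?_) R ?_
  · rw [mem_zar_iff]
    intro z
    obtain ⟨W, hW, hz, -⟩ := exists_isAffineOpen_mem_and_subset (X := Z.left) (x := z) (U := ⊤) trivial
    exact ⟨_, restrι Z W, ⟨z, hz⟩, Sieve.ofArrows_mk _ (fun W : Z.left.affineOpens => restrι Z W.1) ⟨W, hW⟩, inferInstanceAs (IsOpenImmersion W.ι), rfl⟩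
  rintro Y g ⟨_, a, _, ⟨W⟩, rfl⟩
  rw [Sieve.pullback_comp]
  refine K.pullback_stable a ?_
  set U := restr Z W.1
  haveI : IsAffine U.left := W.2
  have hT : R.pullback (restrι Z W.1) ∈ X.smallEtaleTopology U := GrothendieckTopology.pullback_stable _ _ hR
  rw [mem_et_iff] at hT
  choose Y' φ y hφ het hy using hT
  choose V hV hyV _hsub using fun u => exists_isAffineOpen_mem_and_subset (X := (Y' u).left) (x := y u) (U := ⊤) trivial
  have hopen : ∀ u, IsOpen (Set.range ((V u).ι ≫ (φ u).left)) := fun u => by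
    haveI := het u
    exact ((V u).ι ≫ (φ u).left).isOpenMap.isOpen_range
  obtain ⟨s, hs⟩ := isCompact_univ.elim_finite_subcover (fun u : U.left => Set.range ((V u).ι ≫ (φ u).left)) hopen
    (fun u _ => Set.mem_iUnion.2 ⟨u, ⟨y u, hyV u⟩, hy u⟩)
  let Vs : s → Scheme.{u} := fun u => (V u.1 : Scheme.{u})
  haveI : ∀ u : s, AlgebraicGeometry.Etale ((V u.1).ι ≫ (Y' u.1).hom) := fun u => by
    haveI : AlgebraicGeometry.Etale (Y' u.1).hom := (Y' u.1).prop
    infer_instance
  haveI : ∀ u : s, IsAffine (Vs u) := fun u => hV u.1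
  let Vt : X.Etale := MorphismProperty.Over.mk _ (Limits.Sigma.desc fun u : s => (V u.1).ι ≫ (Y' u.1).hom)
    (IsZariskiLocalAtSource.sigmaDesc (P := @AlgebraicGeometry.Etale) (fun u => inferInstance))
  haveI : IsAffine Vt.left := inferInstanceAs (IsAffine (∐ Vs))
  let d : Vt ⟶ U := MorphismProperty.Over.homMk (Limits.Sigma.desc fun u : s => (V u.1).ι ≫ (φ u.1).left) (by
    refine Limits.Sigma.hom_ext _ _ fun u => ?_
    show Limits.Sigma.ι Vs u ≫ (Limits.Sigma.desc fun u : s => (V u.1).ι ≫ (φ u.1).left) ≫ U.hom = Limits.Sigma.ι Vs u ≫ Limits.Sigma.desc fun u : s => (V u.1).ι ≫ (Y' u.1).hom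
    refine (Category.assoc _ _ _).symm.trans ((congrArg (fun k => k ≫ U.hom) (Limits.Sigma.ι_desc _ u)).trans ?_)
    refine Eq.trans ?_ (Limits.Sigma.ι_desc _ u).symm
    exact (Category.assoc _ _ _).trans (congrArg (fun k => (V u.1).ι ≫ k) (MorphismProperty.Over.w (φ u.1))))
  haveI : Surjective d.left := ⟨fun x => by
    obtain ⟨u, hu, v, hv⟩ := Set.mem_iUnion₂.1 (hs (Set.mem_univ x))
    refine ⟨Limits.Sigma.ι Vs ⟨u, hu⟩ v, ?_⟩
    show (Limits.Sigma.ι Vs ⟨u, hu⟩ ≫ Limits.Sigma.desc fun u : s => (V u.1).ι ≫ (φ u.1).left) v = x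
    rw [Limits.Sigma.ι_desc]; exact hv⟩
  refine K.transitive (singleton_mem F hzar hsing d) _ ?_
  rintro T b ⟨_, c, _, ⟨⟩, rfl⟩
  rw [Sieve.pullback_comp]
  refine K.pullback_stable c (hz _ ?_)
  rw [mem_zar_iff]
  intro v
  obtain ⟨u, v', rfl⟩ : ∃ (u : s) (v' : Vs u), Limits.Sigma.ι Vs u v' = v := by
    obtain ⟨⟨u, v'⟩, rfl⟩ := (sigmaMk Vs).surjective v
    exact ⟨u, v', (sigmaMk_mk Vs u v').symm⟩
  let e : restr (Y' u.1) (V u.1) ⟶ Vt := MorphismProperty.Over.homMk (Limits.Sigma.ι Vs u) (Limits.Sigma.ι_desc _ _)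
  refine ⟨_, e, v', ?_, inferInstanceAs (IsOpenImmersion (Limits.Sigma.ι Vs u)), rfl⟩
  show (R.pullback (restrι Z W.1)).arrows (e ≫ d)
  convert (R.pullback (restrι Z W.1)).downward_closed (hφ u.1) (restrι (Y' u.1) (V u.1)) using 1
  apply MorphismProperty.Over.Hom.ext
  exact Limits.Sigma.ι_desc _ _

end EtSheafLib
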